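import Mathlib
import Cfsg.Agent.Lib.Helper32.P8.Tools

/-!
# S4409 package [KI] (helper25)

The case `X = [X, H]` nonabelian: pass to the type-level context on `↥X`.
-/

set_option autoImplicit false

universe u

namespace Cfsg.Agent.Lib.Helper25.P8

open Cfsg.Agent.Lib.Helper32.P8

/-- package [KI] -/
theorem lemKI : LemKI.{u} := by
  intro hTr hGen hCore S _ _ H X ctx hXH hna
  obtain ⟨A, hAcard, hA1, hA2⟩ := hTr H X ctx.nrm
  have hgen : Gen ↥X A := ⟨ctx.two, Odd.of_dvd_nat ctx.odd hAcard, hGen H X A hA2 hXH⟩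
  have hnab : ∃ a b : ↥X, a * b ≠ b * a := by
    by_contra h
    push Not at h
    exact hna ⟨⟨fun a b => h a b⟩⟩
  have hmin : ∀ N' : Subgroup ↥X, (∀ φ ∈ A, ∀ n ∈ N', φ n ∈ N') →
      (∃ B : Subgroup ↥X, B ≤ N' ∧ IsP8 B) → N' = ⊤ := by
    intro N' hinv hP8
    obtain ⟨B', hB'N, hB'⟩ := hP8
    have hNX : N'.map X.subtype ≤ X := Subgroup.map_subtype_le N'
    have hnorm : H ≤ Subgroup.normalizer ((N'.map X.subtype : Subgroup S) : Set S) := by
      apply le_normalizer_of_conj_mem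
      rintro h hh _ ⟨n', hn', rfl⟩
      obtain ⟨φ, hφ, hφn⟩ := hA2 h hh
      have h1 := hφn n'
      rw [Subgroup.coe_subtype, ← h1]
      exact ⟨φ n', hinv φ hφ n' hn', rfl⟩
    have hP : ∃ B : Subgroup S, B ≤ N'.map X.subtype ∧ IsP8 B :=
      ⟨B'.map X.subtype, Subgroup.map_mono hB'N, (isP8_map_subtype X B').mpr hB'⟩
    have hEq := ctx.min (N'.map X.subtype) hNX hnorm hP
    rw [eq_top_iff]
    intro x _
    have hx : (x : S) ∈ N'.map X.subtype := by
      rw [hEq]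
      exact x.2
    obtain ⟨n', hn', hn'x⟩ := hx
    have : n' = x := Subtype.ext hn'x
    rw [← this]
    exact hn'
  obtain ⟨B, hBX, hB⟩ := ctx.has
  exact hCore A ⟨hgen, hnab, hmin⟩ ⟨B.subgroupOf X, (isP8_subgroupOf hBX).mpr hB⟩

end Cfsg.Agent.Lib.Helper25.P8
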